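import Groth.Agent.GmTorsorZar.Main
import Groth.Agent.BGaNotS.GaPts

/-!
Torsors under the additive group are trivial over affine bases, hence locally trivial for the Zariski topology.
-/

set_option autoImplicit false
set_option backward.isDefEq.respectTransparency false
set_option linter.style.haveILetI false
set_option maxHeartbeats 800000

universe u

noncomputable section

open CategoryTheory Limits MonoidalCategory CartesianMonoidalCategory MonObj AlgebraicGeometry
open scoped TensorProduct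

namespace Groth.Agent.GaTorsorZar

open Groth.Agent.GmTorsorZar (tr tr_comp tr_one tr_mul existsUnique_tr)

section Alg

variable {A B : Type u} [CommRing A] [CommRing B] [Algebra A B] [Module.FaithfullyFlat A B]

local notation "ιl" => (Algebra.TensorProduct.includeLeft : B →ₐ[A] B ⊗[A] B)
local notation "ιr" => (Algebra.TensorProduct.includeRight : B →ₐ[A] B ⊗[A] B)

/-- an additive cocycle is a coboundary -/
theorem exists_primitive
    (W : ∀ (R : Type u) [CommRing R] [Algebra A R] [Module.Flat A R], (B →ₐ[A] R) → (B →ₐ[A] R) → R)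
    (hnat : ∀ (R R' : Type u) [CommRing R] [Algebra A R] [Module.Flat A R] [CommRing R'] [Algebra A R']
      [Module.Flat A R'] (f : R →ₐ[A] R') (φ ψ : B →ₐ[A] R), f (W R φ ψ) = W R' (f.comp φ) (f.comp ψ))
    (hcoc : ∀ (R : Type u) [CommRing R] [Algebra A R] [Module.Flat A R] (φ ψ χ : B →ₐ[A] R),
      W R φ ψ + W R ψ χ = W R φ χ) :
    ∃ b : B, W (B ⊗[A] B) ιl ιr = 1 ⊗ₜ b - b ⊗ₜ 1 := by
  let d := W (B ⊗[A] B) ιl ιr
  let t := W (B ⊗[A] B) ιr ιl
  let R3 := (B ⊗[A] B) ⊗[A] B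
  let inc : B ⊗[A] B →ₐ[A] R3 := Algebra.TensorProduct.includeLeft
  let Φ : B × A →ₗ[A] B ⊗[A] B :=
    ((ιr).toLinearMap - (ιl).toLinearMap) ∘ₗ LinearMap.fst A B A - (LinearMap.toSpanSingleton A _ d) ∘ₗ LinearMap.snd A B A
  have hΦ : ∀ s : B ⊗[A] B, Φ.rTensor B ((LinearMap.inl A B A).rTensor B s) =
      Algebra.TensorProduct.map ιr (AlgHom.id A B) s - Algebra.TensorProduct.map ιl (AlgHom.id A B) s := fun s => by
    induction s using TensorProduct.induction_on with
    | zero => simp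
    | add a b ha hb => simp only [map_add, ha, hb]; abel
    | tmul b c => simp [Φ, TensorProduct.sub_tmul]
  let z : (B × A) ⊗[A] B := (LinearMap.inl A B A).rTensor B t + ((0 : B), (1 : A)) ⊗ₜ 1
  have h13 : ∀ φ : B →ₐ[A] B ⊗[A] B, (Algebra.TensorProduct.map φ (AlgHom.id A B)).comp ιl = inc.comp φ := fun φ => by
    ext b; simp [inc]; rfl
  have h33 : ∀ φ : B →ₐ[A] B ⊗[A] B, (Algebra.TensorProduct.map φ (AlgHom.id A B)).comp ιr =
      (Algebra.TensorProduct.includeRight : B →ₐ[A] R3) := fun φ => by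
    ext b; simp [R3]
  have hz : Φ.rTensor B z = 0 := by
    have e : Φ.rTensor B (((0 : B), (1 : A)) ⊗ₜ[A] (1 : B)) = -inc d := by
      simp [Φ, inc, TensorProduct.neg_tmul]; rfl
    rw [map_add, hΦ, e, hnat, hnat, hnat, h13, h13, h33, h33,
      ← hcoc R3 Algebra.TensorProduct.includeRight (inc.comp ιl) (inc.comp ιr)]
    abel
  obtain ⟨w, hw⟩ := (Module.Flat.rTensor_exact (M := B) (LinearMap.exact_subtype_ker_map Φ) z).1 hz
  let J : Ideal A := LinearMap.range (LinearMap.snd A B A ∘ₗ (LinearMap.ker Φ).subtype)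
  have key : ∀ v, TensorProduct.lid A B ((LinearMap.snd A B A).rTensor B ((LinearMap.ker Φ).subtype.rTensor B v)) ∈
      Ideal.map (algebraMap A B) J := fun v => by
    induction v using TensorProduct.induction_on with
    | zero => simp
    | add a b ha hb => simp only [map_add]; exact Ideal.add_mem _ ha hb
    | tmul k c =>
      simp only [LinearMap.rTensor_tmul, TensorProduct.lid_tmul, Algebra.smul_def]
      exact Ideal.mul_mem_right _ _ (Ideal.mem_map_of_mem _ ⟨k, rfl⟩)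
  have e0 : ∀ s : B ⊗[A] B, (LinearMap.snd A B A).rTensor B ((LinearMap.inl A B A).rTensor B s) = 0 := fun s => by
    induction s using TensorProduct.induction_on with
    | zero => simp
    | add a b ha hb => simp only [map_add, ha, hb, add_zero]
    | tmul b c => simp
  have h1 : (1 : B) ∈ Ideal.map (algebraMap A B) J := by
    have := key w
    rw [hw] at this
    simpa [z, e0] using this
  have hJ : J = ⊤ := by
    refine Ideal.map_injective_of_faithfullyFlat (B := B) ?_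
    rw [Ideal.map_top, Ideal.eq_top_iff_one]
    exact h1
  obtain ⟨⟨⟨b, r⟩, hk⟩, hr⟩ : (1 : A) ∈ J := hJ ▸ Submodule.mem_top
  refine ⟨b, ?_⟩
  have hr' : r = 1 := hr
  subst hr'
  have hk' : (1 : B) ⊗ₜ[A] b - b ⊗ₜ[A] (1 : B) - d = 0 := by
    have := LinearMap.mem_ker.1 hk
    simpa [Φ] using this
  exact (sub_eq_zero.1 hk').symm

end Alg

variable {S : Scheme.{u}}

theorem exists_section {X : Over S} (a : AlgGrp.Action (Red.Ga S) X)
    (h : NonAbH1.IsPseudoTorsorSch a) [IsAffineHom X.hom] [Flat X.hom] [Surjective X.hom] (s : S) :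
    ∃ (D : Scheme.{u}) (j : D ⟶ S), IsOpenImmersion j ∧ s ∈ Set.range j ∧ ∃ x : D ⟶ X.left, x ≫ X.hom = j := by
  obtain ⟨_, ⟨V, hV, rfl⟩, hsV, -⟩ := S.isBasis_affineOpens.exists_subset_of_mem_open (Set.mem_univ s) isOpen_univ
  let U := X.hom ⁻¹ᵁ V
  have hU : IsAffineOpen U := hV.preimage X.hom
  let A := Γ(S, V)
  let B := Γ(X.left, U)
  let φ₀ := X.hom.appLE V U le_rfl
  letI : Algebra A B := φ₀.hom.toAlgebra
  have hfl : φ₀.hom.Flat := X.hom.flat_appLE hV hU le_rfl
  haveI : Module.Flat A B := hfl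
  have hτ : hU.fromSpec ≫ X.hom = Spec.map φ₀ ≫ hV.fromSpec :=
    (hV.SpecMap_appLE_fromSpec X.hom hU le_rfl).symm
  have hsurj : ∀ P : PrimeSpectrum A, ∃ Q : PrimeSpectrum B, PrimeSpectrum.comap (algebraMap A B) Q = P := fun P => by
    obtain ⟨y, hy⟩ := X.hom.surjective (hV.fromSpec P)
    have hyU : y ∈ U := show X.hom y ∈ V by rw [hy]; exact hV.range_fromSpec.le ⟨P, rfl⟩
    refine ⟨hU.primeIdealOf ⟨y, hyU⟩, hV.fromSpec.isOpenEmbedding.injective ?_⟩
    show hV.fromSpec (Spec.map φ₀ (hU.primeIdealOf ⟨y, hyU⟩)) = _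
    rw [← Scheme.Hom.comp_apply, ← hτ, Scheme.Hom.comp_apply, hU.fromSpec_primeIdealOf, hy]
  haveI : Module.FaithfullyFlat A B := Module.FaithfullyFlat.of_comap_surjective hsurj
  let T : ∀ (R : Type u) [CommRing R] [Algebra A R], Over S :=
    fun R _ _ => Over.mk (Spec.map (CommRingCat.ofHom (algebraMap A R)) ≫ hV.fromSpec)
  let pt : ∀ (R : Type u) [CommRing R] [Algebra A R], (B →ₐ[A] R) → (T R ⟶ X) := fun R _ _ φ =>
    Over.homMk (Spec.map (CommRingCat.ofHom φ.toRingHom) ≫ hU.fromSpec) (by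
      show (_ ≫ _) ≫ X.hom = _
      rw [Category.assoc, hτ, ← Spec.map_comp_assoc]
      congr 2
      ext z
      exact φ.commutes z)
  let ε : ∀ (R : Type u) [CommRing R], Γ(Spec (CommRingCat.of R), ⊤) →+* R := fun R _ =>
    (Scheme.ΓSpecIso (CommRingCat.of R)).hom.hom
  let W : ∀ (R : Type u) [CommRing R] [Algebra A R] [Module.Flat A R], (B →ₐ[A] R) → (B →ₐ[A] R) → R :=
    fun R _ _ _ φ ψ => ε R (Red.gaFn (X := T R) (existsUnique_tr a h (pt R φ) (pt R ψ)).exists.choose)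
  have hWspec : ∀ (R : Type u) [CommRing R] [Algebra A R] [Module.Flat A R] (φ ψ : B →ₐ[A] R)
      (g : T R ⟶ Red.Ga S), tr a g (pt R φ) = pt R ψ → W R φ ψ = ε R (Red.gaFn (X := T R) g) := fun R _ _ _ φ ψ g hg => by
    show ε R (Red.gaFn (X := T R) _) = _
    rw [(existsUnique_tr a h (pt R φ) (pt R ψ)).unique (existsUnique_tr a h (pt R φ) (pt R ψ)).exists.choose_spec hg]
  have hW : ∀ (R : Type u) [CommRing R] [Algebra A R] [Module.Flat A R] (φ ψ : B →ₐ[A] R),
      ∃ g : T R ⟶ Red.Ga S, tr a g (pt R φ) = pt R ψ ∧ W R φ ψ = ε R (Red.gaFn (X := T R) g) := fun R _ _ _ φ ψ =>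
    ⟨_, (existsUnique_tr a h (pt R φ) (pt R ψ)).exists.choose_spec, rfl⟩
  have hnat : ∀ (R R' : Type u) [CommRing R] [Algebra A R] [Module.Flat A R] [CommRing R'] [Algebra A R']
      [Module.Flat A R'] (f : R →ₐ[A] R') (φ ψ : B →ₐ[A] R),
      f (W R φ ψ) = W R' (f.comp φ) (f.comp ψ) := fun R R' _ _ _ _ _ _ f φ ψ => by
    obtain ⟨g, hg, e⟩ := hW R φ ψ
    let p : T R' ⟶ T R := Over.homMk (Spec.map (CommRingCat.ofHom f.toRingHom)) (by
      show _ ≫ _ ≫ _ = _
      rw [← Spec.map_comp_assoc]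
      congr 2
      ext z
      exact f.commutes z)
    have hp : ∀ χ : B →ₐ[A] R, p ≫ pt R χ = pt R' (f.comp χ) := fun χ => by
      ext1
      show Spec.map (CommRingCat.ofHom f.toRingHom) ≫ Spec.map (CommRingCat.ofHom χ.toRingHom) ≫ hU.fromSpec =
        Spec.map (CommRingCat.ofHom (f.comp χ).toRingHom) ≫ hU.fromSpec
      rw [← Spec.map_comp_assoc]
      rfl
    have := congrArg (p ≫ ·) hg
    simp only [tr_comp, hp] at this
    rw [hWspec R' _ _ _ this, e, BGaNotS.gaFn_comp]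
    exact (RingHom.congr_fun (congrArg CommRingCat.Hom.hom
      (Scheme.ΓSpecIso_naturality (CommRingCat.ofHom f.toRingHom))) (Red.gaFn g)).symm
  have hone : ∀ (R : Type u) [CommRing R] [Algebra A R] [Module.Flat A R] (φ : B →ₐ[A] R), W R φ φ = 0 :=
    fun R _ _ _ φ => by rw [hWspec R φ φ 1 (tr_one a _), BGaNotS.gaFn_one, map_zero]
  have hcoc : ∀ (R : Type u) [CommRing R] [Algebra A R] [Module.Flat A R] (φ ψ χ : B →ₐ[A] R),
      W R φ ψ + W R ψ χ = W R φ χ := fun R _ _ _ φ ψ χ => by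
    obtain ⟨g, hg, e⟩ := hW R φ ψ
    obtain ⟨g', hg', e'⟩ := hW R ψ χ
    rw [hWspec R φ χ (g' * g) (by rw [tr_mul, hg, hg']), BGaNotS.gaFn_mul, map_add, e, e', add_comm]
  obtain ⟨b, hb⟩ := exists_primitive W hnat hcoc
  refine ⟨_, hV.fromSpec, inferInstance, hV.range_fromSpec.ge hsV, ?_⟩
  let g₀ : T B ⟶ Red.Ga S := BGaNotS.gaPt ((Scheme.ΓSpecIso (CommRingCat.of B)).inv (-b))
  let x₀ := tr a g₀ (pt B (AlgHom.id A B))
  let q := Spec.map (CommRingCat.ofHom (algebraMap A B))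
  haveI : Flat q := Flat.SpecMap_iff.2 hfl
  haveI : Surjective q := ⟨hsurj⟩
  haveI : EffectiveEpi q := inferInstance
  let R2 := B ⊗[A] B
  let l : B →ₐ[A] R2 := Algebra.TensorProduct.includeLeft
  let r : B →ₐ[A] R2 := Algebra.TensorProduct.includeRight
  let mkT : (B →ₐ[A] R2) → (T R2 ⟶ T B) := fun ω => Over.homMk (Spec.map (CommRingCat.ofHom ω.toRingHom)) (by
    show _ ≫ _ ≫ _ = _
    rw [← Spec.map_comp_assoc]
    congr 2
    ext z
    exact ω.commutes z)
  have hpt : ∀ ω : B →ₐ[A] R2, mkT ω ≫ pt B (AlgHom.id A B) = pt R2 ω ∧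
      ε R2 (Red.gaFn (mkT ω ≫ g₀)) = - ω b := fun ω => by
    refine ⟨?_, ?_⟩
    · ext1
      show Spec.map (CommRingCat.ofHom ω.toRingHom) ≫ Spec.map (CommRingCat.ofHom (AlgHom.id A B).toRingHom) ≫
        hU.fromSpec = Spec.map (CommRingCat.ofHom ω.toRingHom) ≫ hU.fromSpec
      rw [← Spec.map_comp_assoc]
      rfl
    · have e : ε R2 (Red.gaFn (mkT ω ≫ g₀)) = ω (ε B (Red.gaFn g₀)) := by
        rw [BGaNotS.gaFn_comp]
        exact RingHom.congr_fun (congrArg CommRingCat.Hom.hom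
          (Scheme.ΓSpecIso_naturality (CommRingCat.ofHom ω.toRingHom))) (Red.gaFn g₀)
      have e' : ε B ((Scheme.ΓSpecIso (CommRingCat.of B)).inv (-b)) = -b :=
        RingHom.congr_fun (congrArg CommRingCat.Hom.hom (Scheme.ΓSpecIso (CommRingCat.of B)).inv_hom_id) (-b)
      rw [e, BGaNotS.gaFn_gaPt, e', map_neg]
  have hkey : mkT l ≫ x₀ = mkT r ≫ x₀ := by
    obtain ⟨g, hg, e⟩ := hW R2 l r
    rw [tr_comp, tr_comp, (hpt l).1, (hpt r).1, ← hg, ← tr_mul]
    congr 1
    refine BGaNotS.gaPt_ext ((Scheme.ΓSpecIso (CommRingCat.of R2)).commRingCatIsoToRingEquiv.injective ?_)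
    show ε R2 _ = ε R2 _
    rw [BGaNotS.gaFn_mul, map_add, (hpt l).2, (hpt r).2, ← e, hb]
    show -(b ⊗ₜ[A] (1 : B)) = -((1 : B) ⊗ₜ[A] b) + ((1 : B) ⊗ₜ[A] b - b ⊗ₜ[A] (1 : B))
    abel
  have hkey' : Spec.map (CommRingCat.ofHom (Algebra.TensorProduct.includeLeftRingHom : B →+* R2)) ≫ x₀.left =
      Spec.map (CommRingCat.ofHom (Algebra.TensorProduct.includeRight : B →ₐ[A] R2).toRingHom) ≫ x₀.left :=
    congrArg CommaMorphism.left hkey
  have hdesc : ∀ {Z : Scheme.{u}} (y z : Z ⟶ Spec (CommRingCat.of B)), y ≫ q = z ≫ q → y ≫ x₀.left = z ≫ x₀.left := by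
    intro Z y z e'
    have h1 : (pullback.lift y z e' ≫ (pullbackSpecIso A B B).hom) ≫
        Spec.map (CommRingCat.ofHom (Algebra.TensorProduct.includeLeftRingHom : B →+* R2)) = y := by
      rw [Category.assoc, pullbackSpecIso_hom_fst, pullback.lift_fst]
    have h2 : (pullback.lift y z e' ≫ (pullbackSpecIso A B B).hom) ≫
        Spec.map (CommRingCat.ofHom (Algebra.TensorProduct.includeRight : B →ₐ[A] R2).toRingHom) = z := by
      rw [Category.assoc]
      erw [pullbackSpecIso_hom_snd]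
      exact pullback.lift_snd _ _ _
    exact (congrArg (· ≫ x₀.left) h1).symm.trans ((Category.assoc _ _ _).trans
      ((congrArg _ hkey').trans ((Category.assoc _ _ _).symm.trans (congrArg (· ≫ x₀.left) h2))))
  refine ⟨EffectiveEpi.desc q x₀.left hdesc, (cancel_epi q).1 ?_⟩
  rw [← Category.assoc, EffectiveEpi.fac]
  exact Over.w x₀

theorem isTorsorFor_zariski {X : Over S} (a : AlgGrp.Action (Red.Ga S) X)
    (h : NonAbH1.IsTorsorFor Scheme.fpqcPrecoverage a) : NonAbH1.IsTorsorFor Scheme.zariskiPrecoverage a := by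
  haveI : IsAffineHom (Red.Ga S).hom := by
    haveI : IsAffineHom Red.GaZ.{u}.hom := by
      show IsAffineHom (Spec.map _)
      infer_instance
    show IsAffineHom (pullback.snd _ _)
    exact MorphismProperty.pullback_snd _ _ inferInstance
  haveI : Flat (Red.Ga S).hom := by
    haveI : Flat Red.GaZ.{u}.hom := by
      show Flat (Spec.map (CommRingCat.ofHom (algebraMap LineGrp.Z.{u} LineGrp.Sym.{u})))
      exact Flat.SpecMap_iff.2 (RingHom.flat_algebraMap_iff.2 inferInstance)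
    show Flat (pullback.snd _ _)
    exact MorphismProperty.pullback_snd _ _ inferInstance
  obtain ⟨_, _⟩ := S6004.result (Red.Ga S) X a h
  obtain ⟨R, hR, hs⟩ := h.2
  haveI : Surjective X.hom := ⟨fun s => by
    obtain ⟨_, g, hg, ⟨y, rfl⟩⟩ := (Presieve.mem_comap_jointlySurjectivePrecoverage_iff Scheme.forget).1
      hR.2.1 s
    obtain ⟨t, rfl⟩ := hs g hg
    exact ⟨t y, (Scheme.Hom.comp_apply _ _ _).symm⟩⟩
  choose D j hj hjs x hx using exists_section a h.1
  refine ⟨h.1, Presieve.ofArrows D j, ⟨?_, ?_⟩, ?_⟩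
  · exact (Presieve.mem_comap_jointlySurjectivePrecoverage_iff Scheme.forget).2 fun s => ⟨_, _, ⟨s⟩, hjs s⟩
  · rintro _ _ ⟨i⟩
    exact hj i
  · rintro _ _ ⟨i⟩
    exact ⟨x i, hx i⟩

end Groth.Agent.GaTorsorZar
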